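import Cfsg.Agent.Lib.Helper34.G168c

set_option autoImplicit false

/-! Kernel checks for the maximal subgroups of a simple group of order 168. -/

namespace Cfsg.Agent.Lib.Helper34

open Cfsg.Agent.Lib.Helper33

def g168X1 : ℕ := 0x1000000490000001700000100491700002100210000010000000000014937014d00003700000000000000010000490000003700002100000000212100214d00000000370001001700000000002100010021004e0000000017004e00000000010000004900012100010000002100490000010000000000170149374d21000000000000000100000000000017210001004900000000010000000000170000370017004d0000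
def g168X2 : ℕ := 0x1700000056000000240000170056240000240024000037000000000037903d174e00003d00000000000000170000900000003d00003d000000002424003d7c000000003d0037002400000000003d0037003d00580000000024005800000000370000005600372400170000003d005600001700000000002417903d4e3d0000000000000017000000000000242400370090000000003700000000002400003d0024007c0000
def g168X3 : ℕ := 0x490000005000000050000064004d4d00004900640000490000000000504d4d4d50000064000000000000006400005000000050000049000000005064004d500000000064004e004e00000000004e004e004e0064000000004e006400000000500000005000214900210000004d004d0000490000000000504d4d4d504900000000000000210000000000003750002100500000000049000000000037000050004d00500000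
def g168X4 : ℕ := 0x56000000640000006400007c007c7c000056007c0000900000000000644e4e4e6400007c000000000000007c0000580000005800009000000000587c007c58000000007c0058005800000000005800580058007c0000000058007c000000006400000064002456003d0000007c007c0000560000000000644e4e4e6490000000000000003d0000000000003d5800240058000000009000000000003d000058007c00580000

def gx1 (i : ℕ) : ℕ := g8 g168X1 i
def gx2 (i : ℕ) : ℕ := g8 g168X2 i
def gx3 (i : ℕ) : ℕ := g8 g168X3 i
def gx4 (i : ℕ) : ℕ := g8 g168X4 i

/-- the words used to find elements of order seven -/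
def gw1 (x y : ℕ) : ℕ := gm (gm (gm (gm (gm x x) y) x) y) y
def gw2 (x y : ℕ) : ℕ := gm (gm (gm (gm (gm x y) x) y) y) y

set_option maxRecDepth 1000000 in
theorem g168_x : ∀ x < 168, go x = 3 → (gx1 x < 168 ∧ gx2 x < 168 ∧ gx3 x < 168 ∧ gx4 x < 168 ∧
    go (gx1 x) = 2 ∧ go (gx2 x) = 2 ∧ go (gx3 x) = 2 ∧ go (gx4 x) = 2 ∧ gx1 x ≠ gx2 x ∧ gx3 x ≠ gx4 x ∧
    gm (gx1 x) (gx2 x) = gm (gx2 x) (gx1 x) ∧ gm (gx3 x) (gx4 x) = gm (gx4 x) (gx3 x)) := by decide +kernel

set_option maxRecDepth 1000000 in
theorem g168_three_chk : allBelow (fun x => !(Nat.beq (go x) 3) || allBelow (fun y =>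
    gnr (gx1 x) (gx2 x) y || (gnr (gx3 x) (gx4 x) y || (Nat.beq (go y) 7 || (Nat.beq (go (gm x y)) 7 ||
      (Nat.beq (go (gw1 x y)) 7 || Nat.beq (go (gw2 x y)) 7))))) 168) 168 = true := by decide +kernel

/-- membership in the cyclic group generated by an index -/
noncomputable def inP (z w : ℕ) : Bool := !(allBelow (fun m => !(Nat.beq (gp z m) w)) 7)

noncomputable def hasOrd (z w n : ℕ) : Bool := !(allBelow (fun m => !(Nat.beq (go (gm (gp z m) w)) n)) 7)

set_option maxRecDepth 1000000 in
theorem g168_seven_chk : allBelow (fun z => !(Nat.beq (go z) 7) || allBelow (fun w => !(Nat.beq (go w) 7) ||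
    (inP z w || (hasOrd z w 4 && hasOrd z w 3))) 168) 168 = true := by decide +kernel

set_option maxRecDepth 1000000 in
theorem g168_ord_cj : ∀ k < 168, ∀ z < 168, go (gcj k z) = go z := by decide +kernel

set_option maxRecDepth 1000000 in
theorem g168_two_nr : ∀ i < 168, ∀ k < 168, go i = 2 → gm k i = gm i k → gnr i (ga i) k = true := by
  decide +kernel

/-- membership in the normaliser of the cyclic group generated by an index -/
noncomputable def gn7 (z k : ℕ) : Bool := inP z (gcj k z) && inP z (gcj (gi k) z)

set_option maxRecDepth 1000000 in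
theorem g168_n7 : ∀ z < 168, go z = 7 → cntBelow (gn7 z) 168 = 21 ∧
    ∃ k < 168, gn7 z k = true ∧ gm k z ≠ gm z k := by decide +kernel

set_option maxRecDepth 1000000 in
theorem g168_c7 : ∀ z < 168, ∀ w < 168, go z = 7 → go w = 7 → gk z = gk w ∨ gk (gi z) = gk w := by
  decide +kernel

set_option maxRecDepth 1000000 in
theorem g168_nn : ∀ k < 168, ∃ m < 168, gnr 1 (ga 1) m = true ∧ gnr 1 (gb 1) (gcj k m) = false := by
  decide +kernel

set_option maxRecDepth 1000000 in
theorem g168_cf_chk : allBelow (fun c => !(Nat.beq (go c) 2) || allBelow (fun d =>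
    !(Nat.beq (go d) 2 && (!(Nat.beq c d) && Nat.beq (gm c d) (gm d c))) ||
    !(allBelow (fun k => !((inU c d (gcj k 1) && inU c d (gcj k (ga 1))) ||
      (inU c d (gcj k 1) && inU c d (gcj k (gb 1))))) 168)) 168) 168 = true := by decide +kernel

end Cfsg.Agent.Lib.Helper34
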