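import Cfsg.Agent.Lib.Helper34.M11Elts

set_option autoImplicit false

/-! The centraliser of an involution in `M11` is isomorphic to `GL(2,3)`. -/

namespace Cfsg.Agent.Lib.Helper34

open Cfsg Cfsg.Agent.Lib.Helper33
open Cfsg.Agent.Lib.Helper9 (D0 H12 fixL mem_fixL H12_mem_iff)
open scoped Pointwise

/-- kernel check of `P = A ∘ B` for packed permutations -/
noncomputable def mulChk (P A B : ℕ) : Bool :=
  allBelow (fun i => Nat.beq (fld5 P i) (fld5 A (fld5 B i))) 24

theorem mulChk_spec {P A B : ℕ} (hP : isPerm P = true) (hA : isPerm A = true) (hB : isPerm B = true)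
    (h : mulChk P A B = true) : permOf P = permOf A * permOf B := by
  rw [mulChk, allBelow_iff] at h
  ext1 p
  rw [Equiv.Perm.mul_apply, permOf_apply hP, permOf_apply hA, idx_permOf hB,
    Nat.eq_of_beq_eq_true (h _ (idx_lt p))]

/-- kernel check that two packed permutations commute -/
noncomputable def commChk (A B : ℕ) : Bool :=
  allBelow (fun i => Nat.beq (fld5 A (fld5 B i)) (fld5 B (fld5 A i))) 24

theorem commChk_spec {A B : ℕ} (hA : isPerm A = true) (hB : isPerm B = true)
    (h : commChk A B = true) : permOf A * permOf B = permOf B * permOf A := by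
  rw [commChk, allBelow_iff] at h
  ext1 p
  rw [Equiv.Perm.mul_apply, Equiv.Perm.mul_apply, permOf_apply hA, idx_permOf hB,
    permOf_apply hB, idx_permOf hA, Nat.eq_of_beq_eq_true (h _ (idx_lt p))]

/-- the centraliser of the base involution in the base `M11` -/
def cent0 : Subgroup (Equiv.Perm GolayPt) := fixL H12 [0] ⊓ Subgroup.centralizer {permOf invP}

theorem mem_cent0 {g : Equiv.Perm GolayPt} :
    g ∈ cent0 ↔ g ∈ fixL H12 [0] ∧ permOf invP * g = g * permOf invP := by
  rw [cent0, Subgroup.mem_inf, Subgroup.mem_centralizer_iff]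
  simp only [Set.mem_singleton_iff, forall_eq]

def glTab : ℕ := 0x5bad1aa2902ce4c79d26536e208c809b8a7aa28cb2c70bc524535e1148c02b9eaa92905de49b1d8688e6113500000000000000000000000000000000bb967a9289795b09a98888ec20c8c0b3aeaa9a8c9bc692c6043c9620b5007ba71a9a89bd9ac5aa083c8a110c80000000000000000000000000000000a96d15a0f074c29bd182535e691060000000000000000000000000000000ad8a79a22c72c497d201536e419a40000000000000000000000000000000aadea290f075c4c9d12188ec6921a0abd67b91497142cb520288e6869a40ade7179949758502d1813c96869060aceeab1a2c73c305d1223c8a41a1a0000000000000000000000000000000995d45a0e9b54907c583536f2304405d9d49a2292d4ccb9e12535e3208200000000000000000000000000000002bdd4b914c5d4c999e1288ecd40440badd4290ec7d510b292d88e72308200000000000000000000000000000007cdd4b1a30bd50c2a92d3c96320440b5dd4799509d4895c5833c8ad40820000000000000000000000000000000716ea58cf0abc2cb5122892723350000000000000000000000000000000075ca778d49aac4c9d201892cd448c000000000000000000000000000000072e712b4f0ad8497d181522f230c8074d67b362ca9429bd202521e3248c0759ea9ca2c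adc502d121399632350073ed1bc949acc305d182398ad40c800000000000000000000000000000000000000000000000000000000000005d6ea70e902bcc999d92892c20a1a07d4a770e89bad10b298d8926111a402d671736905d8ccb9d32521e111060000000000000000000000000000000b55677368c994907c523522e209a40bd6d174a897cd0c2aa0d39962090609d5ea74a8cb5c895c603398a1121a0000000000000000000000000000000796b458cecbb9b09a928892c6904405deb478d4c2ba49b1e0689268688200000000000000000000000000000002ceb4b36295ba4c79e06522e418440b2eb42b4e99b870bc584521e6908200000000000000000000000000000009beb4bc950b38692c5843996868440bdab49ca307b9ac5a928398a418820000000000000000000000000000000b15ea588e99dc8c74603a06a6935005be71b894c2d8d071d32a06a868c80bcca7b0a307ad097298da06a41c8c02daea986295bcd071d92a0aa41b5007aed1284ecbcd0972a0da0aa690c809dd6778550b148c74523a0aa86c8c0000000000000000000000000000000000000000000000000000000000000000000000000000000000000000000b9671588ec7d9a9aaa08a05d2310605cdeab0a292de50a9d86a05c3221a0b3ca7b89509ac6cac524a05cd41a402ded17854c5ce50a9d26a09cd410609aeea284e9b3c6cac604a09d2321a07d96798630b95a9aa988a09c321a40000000000000000000000000000000000000000000000000000000000000000000000000000000000000000000000000000000000000000000000000000000000000000000000000000000000000000000000000000000000000000000000000000000000000000000000000000000000000000000000000000000000000000000000000000000000000000000000000000000000000000000000000000000000000000000000000000000000000000000000000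

/-- index of a matrix in the table -/
def code4 (a b c d : ZMod 3) : ℕ := a.val + 3 * b.val + 9 * c.val + 27 * d.val

set_option maxRecDepth 1000000 in
theorem gl_mem : ∀ a b c d : ZMod 3, a * d - b * c ≠ 0 →
    (inFix D0 [0] (fldP glTab (code4 a b c d)) && commChk invP (fldP glTab (code4 a b c d))) = true := by
  decide +kernel

set_option maxRecDepth 1000000 in
theorem gl_mul : ∀ a b c d e f g h : ZMod 3, a * d - b * c ≠ 0 → e * h - f * g ≠ 0 →
    mulChk (fldP glTab (code4 (a * e + b * g) (a * f + b * h) (c * e + d * g) (c * f + d * h)))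
      (fldP glTab (code4 a b c d)) (fldP glTab (code4 e f g h)) = true := by
  decide +kernel

set_option maxRecDepth 1000000 in
theorem gl_inj : ∀ a b c d : ZMod 3, a * d - b * c ≠ 0 →
    fld5 (fldP glTab (code4 a b c d)) 1 = 1 → fld5 (fldP glTab (code4 a b c d)) 3 = 3 →
    a = 1 ∧ b = 0 ∧ c = 0 ∧ d = 1 := by
  decide +kernel

set_option maxRecDepth 1000000 in
theorem gl_surj_aux : ∀ n < 576, (D0.testBit (n / 24) = true ∧ fld5 invP (n / 24) ≠ n / 24 ∧
    D0.testBit (n % 24) = true ∧ fld5 invP (n % 24) ≠ n % 24 ∧ n % 24 ≠ n / 24 ∧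
    n % 24 ≠ fld5 invP (n / 24)) →
    ∃ a b c d : ZMod 3, a * d - b * c ≠ 0 ∧ fld5 (fldP glTab (code4 a b c d)) 1 = n / 24 ∧
      fld5 (fldP glTab (code4 a b c d)) 3 = n % 24 := by
  decide +kernel

theorem gl_surj {x y : ℕ} (hx : x < 24) (hy : y < 24) (h : D0.testBit x = true ∧ fld5 invP x ≠ x ∧
    D0.testBit y = true ∧ fld5 invP y ≠ y ∧ y ≠ x ∧ y ≠ fld5 invP x) :
    ∃ a b c d : ZMod 3, a * d - b * c ≠ 0 ∧ fld5 (fldP glTab (code4 a b c d)) 1 = x ∧
      fld5 (fldP glTab (code4 a b c d)) 3 = y := by
  have h1 : (24 * x + y) / 24 = x := by omega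
  have h2 : (24 * x + y) % 24 = y := by omega
  have := gl_surj_aux (24 * x + y) (by omega)
  rw [h1, h2] at this
  exact this h

theorem gl_det_ne (A : GL (Fin 2) (ZMod 3)) : A.1 0 0 * A.1 1 1 - A.1 0 1 * A.1 1 0 ≠ 0 := by
  have h : IsUnit A.1 := A.isUnit
  rw [Matrix.isUnit_iff_isUnit_det, Matrix.det_fin_two] at h
  exact h.ne_zero

/-- the packed permutation attached to a matrix -/
def glP (A : GL (Fin 2) (ZMod 3)) : ℕ := fldP glTab (code4 (A.1 0 0) (A.1 0 1) (A.1 1 0) (A.1 1 1))

theorem glP_spec (A : GL (Fin 2) (ZMod 3)) : isPerm (glP A) = true ∧ permOf (glP A) ∈ cent0 := by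
  have h := gl_mem _ _ _ _ (gl_det_ne A)
  rw [Bool.and_eq_true] at h
  obtain ⟨hp, hm⟩ := inFix_spec (by decide) h.1
  exact ⟨hp, mem_cent0.2 ⟨hm, commChk_spec invP_spec.1 hp h.2⟩⟩

/-- the permutation attached to a matrix -/
noncomputable def glFun (A : GL (Fin 2) (ZMod 3)) : Equiv.Perm GolayPt := permOf (glP A)

theorem glFun_mul (A B : GL (Fin 2) (ZMod 3)) : glFun (A * B) = glFun A * glFun B := by
  unfold glFun
  apply mulChk_spec (glP_spec _).1 (glP_spec _).1 (glP_spec _).1
  have h := gl_mul _ _ _ _ _ _ _ _ (gl_det_ne A) (gl_det_ne B)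
  have e : ∀ i j, (A * B).1 i j = A.1 i 0 * B.1 0 j + A.1 i 1 * B.1 1 j := by
    intro i j
    rw [Units.val_mul, Matrix.mul_apply, Fin.sum_univ_two]
  unfold glP
  rw [e, e, e, e]
  exact h

end Cfsg.Agent.Lib.Helper34
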