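import Cfsg.Agent.Lib.Helper34.M11Pair

set_option autoImplicit false

/-! Elements of order 2 and 3 of `M11` (stabiliser of the base dodecad and the point `pt 0`) up to conjugacy. -/

namespace Cfsg.Agent.Lib.Helper34

open Cfsg Cfsg.Agent.Lib.Helper33
open Cfsg.Agent.Lib.Helper9 (D0 H12 fixL mem_fixL m12_U6 m12_to_base H12_mem_iff)
open scoped Pointwise

theorem to_base5 {a0 a1 a2 a3 a4 : GolayPt} (hnd : [a0, a1, a2, a3, a4].Nodup)
    (hmem : ∀ a ∈ [a0, a1, a2, a3, a4], a ∈ unmask D0) :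
    ∃ u ∈ H12, u a0 = pt 0 ∧ u a1 = pt 1 ∧ u a2 = pt 2 ∧ u a3 = pt 3 ∧ u a4 = pt 4 := by
  have hc : (unmask D0).card = 12 := Cfsg.Agent.Lib.Helper9.D0_mem.2
  obtain ⟨x, hxd, hx⟩ := exists_emb (unmask D0) 5 (by rw [hc]; norm_num) _ hnd hmem (by simp)
  obtain ⟨u, hu, hux⟩ := m12_to_base x hxd
  refine ⟨u, hu, ?_, ?_, ?_, ?_, ?_⟩
  · have h1 := hux 0; rw [hx 0 (by simp)] at h1; exact h1
  · have h1 := hux 1; rw [hx 1 (by simp)] at h1; exact h1
  · have h1 := hux 2; rw [hx 2 (by simp)] at h1; exact h1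
  · have h1 := hux 3; rw [hx 3 (by simp)] at h1; exact h1
  · have h1 := hux 4; rw [hx 4 (by simp)] at h1; exact h1

theorem permInvApply (a : Equiv.Perm GolayPt) (x : GolayPt) : a⁻¹ (a x) = x :=
  Equiv.Perm.inv_eq_iff_eq.mpr rfl

theorem conj_img {u g : Equiv.Perm GolayPt} {a b x y : GolayPt} (ha : u a = x) (hb : u b = y)
    (hab : g a = b) : (u * g * u⁻¹) x = y := by
  rw [Equiv.Perm.mul_apply, Equiv.Perm.mul_apply, ← ha, permInvApply, hab, hb]

theorem eq_one_of_fix5 {g : Equiv.Perm GolayPt} (hg : g ∈ H12) {s : Finset GolayPt}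
    (hs : s ⊆ unmask D0) (hc : 5 ≤ s.card) (hfix : ∀ y ∈ s, g y = y) : g = 1 := by
  obtain ⟨x, hxs, _⟩ := exists_emb s 5 hc [] List.nodup_nil (by simp) (by simp)
  obtain ⟨u, hu, hux⟩ := m12_to_base x (fun i => hs (hxs i))
  have h1 : u * g * u⁻¹ ∈ fixL H12 [4, 3, 2, 1, 0] := by
    refine ⟨H12.mul_mem (H12.mul_mem hu hg) (H12.inv_mem hu), fun i hi => ?_⟩
    simp only [List.mem_cons, List.not_mem_nil, or_false] at hi
    rcases hi with rfl | rfl | rfl | rfl | rfl
    · exact conj_img (hux 4) (hux 4) (hfix _ (hxs 4))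
    · exact conj_img (hux 3) (hux 3) (hfix _ (hxs 3))
    · exact conj_img (hux 2) (hux 2) (hfix _ (hxs 2))
    · exact conj_img (hux 1) (hux 1) (hfix _ (hxs 1))
    · exact conj_img (hux 0) (hux 0) (hfix _ (hxs 0))
  rw [m12_U6, Subgroup.mem_bot] at h1
  have : g = u⁻¹ * (u * g * u⁻¹) * u := by group
  rw [this, h1]; group

/-- two elements of the dodecad stabiliser agreeing on the five base points are equal -/
theorem eq_of_agree {g γ : Equiv.Perm GolayPt} (hg : g ∈ H12) (hγ : γ ∈ H12)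
    (h : ∀ i ∈ ([4, 3, 2, 1, 0] : List ℕ), g (pt i) = γ (pt i)) : g = γ := by
  have h1 : γ⁻¹ * g ∈ fixL H12 [4, 3, 2, 1, 0] := by
    refine ⟨H12.mul_mem (H12.inv_mem hγ) hg, fun i hi => ?_⟩
    rw [Equiv.Perm.mul_apply, h i hi, permInvApply]
  rw [m12_U6, Subgroup.mem_bot] at h1
  exact (inv_mul_eq_one.1 h1).symm

/-- the involution of `M11` acting as `(1 2)(3 4)` on the base points -/
def invP : ℕ := 0x7cdd4b1a30bd50c2a92d3c96320440

set_option maxRecDepth 1000000 in
theorem invP_ok : (inFix D0 [0] invP && (Nat.beq (fld5 invP 1) 2 && (Nat.beq (fld5 invP 2) 1 &&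
    (Nat.beq (fld5 invP 3) 4 && Nat.beq (fld5 invP 4) 3)))) = true := by decide +kernel

theorem invP_spec : isPerm invP = true ∧ permOf invP ∈ fixL H12 [0] ∧ permOf invP (pt 1) = pt 2 ∧
    permOf invP (pt 2) = pt 1 ∧ permOf invP (pt 3) = pt 4 ∧ permOf invP (pt 4) = pt 3 := by
  have h := invP_ok
  simp only [Bool.and_eq_true] at h
  obtain ⟨h0, h1, h2, h3, h4⟩ := h
  obtain ⟨hp, hm⟩ := inFix_spec (by decide) h0
  refine ⟨hp, hm, ?_, ?_, ?_, ?_⟩
  · rw [permOf_apply hp, idx_pt (by norm_num), Nat.eq_of_beq_eq_true h1]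
  · rw [permOf_apply hp, idx_pt (by norm_num), Nat.eq_of_beq_eq_true h2]
  · rw [permOf_apply hp, idx_pt (by norm_num), Nat.eq_of_beq_eq_true h3]
  · rw [permOf_apply hp, idx_pt (by norm_num), Nat.eq_of_beq_eq_true h4]

theorem pt0_mem : pt 0 ∈ unmask D0 := by rw [pt_mem_unmask (by norm_num)]; decide

/-- a non-trivial element of the dodecad stabiliser moves a point of the dodecad outside any given set of at
most seven points -/
theorem exists_moved {g : Equiv.Perm GolayPt} (hg : g ∈ H12) (h1 : g ≠ 1) (t : Finset GolayPt)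
    (ht : t.card ≤ 7) : ∃ a ∈ unmask D0, a ∉ t ∧ g a ≠ a := by
  by_contra hcon
  push Not at hcon
  apply h1
  have hc : (unmask D0).card = 12 := Cfsg.Agent.Lib.Helper9.D0_mem.2
  refine eq_one_of_fix5 hg (s := unmask D0 \ t) Finset.sdiff_subset ?_ ?_
  · have := Finset.le_card_sdiff t (unmask D0)
    omega
  · intro y hy
    rw [Finset.mem_sdiff] at hy
    exact hcon y hy.1 hy.2

/-- all involutions of `M11` are conjugate -/
theorem inv_conj {g : Equiv.Perm GolayPt} (hg : g ∈ fixL H12 [0]) (h2 : g * g = 1) (h1 : g ≠ 1) :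
    ∃ u ∈ fixL H12 [0], u * g * u⁻¹ = permOf invP := by
  have hgd : ∀ x, g x ∈ unmask D0 ↔ x ∈ unmask D0 := H12_mem_iff hg.1
  have g0 : g (pt 0) = pt 0 := hg.2 0 (by simp)
  have hinv : ∀ x, g (g x) = x := fun x => by
    rw [← Equiv.Perm.mul_apply, h2, Equiv.Perm.one_apply]
  obtain ⟨c, hc, _, hgc⟩ := exists_moved hg.1 h1 ∅ (by simp)
  obtain ⟨a, ha, hat, hga⟩ := exists_moved hg.1 h1 {c, g c} (le_trans Finset.card_le_two (by norm_num))
  simp only [Finset.mem_insert, Finset.mem_singleton, not_or] at hat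
  obtain ⟨hac, hae⟩ := hat
  have hc0 : c ≠ pt 0 := fun e => hgc (by rw [e, g0])
  have ha0 : a ≠ pt 0 := fun e => hga (by rw [e, g0])
  have he0 : g c ≠ pt 0 := fun e => hc0 (g.injective (e.trans g0.symm))
  have hb0 : g a ≠ pt 0 := fun e => ha0 (g.injective (e.trans g0.symm))
  have hbc : g a ≠ c := fun e => hae (by rw [← e, hinv])
  have hbe : g a ≠ g c := fun e => hac (g.injective e)
  obtain ⟨u, hu, e0, e1, e2, e3, e4⟩ := to_base5 (a0 := pt 0) (a1 := c) (a2 := g c) (a3 := a) (a4 := g a)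
    (by
      simp only [List.nodup_cons, List.mem_cons, List.not_mem_nil, or_false, not_or, List.nodup_nil,
        and_true, not_false_eq_true]
      exact ⟨⟨hc0.symm, he0.symm, ha0.symm, hb0.symm⟩, ⟨hgc.symm, Ne.symm hac, hbc.symm⟩,
        ⟨Ne.symm hae, hbe.symm⟩, hga.symm⟩)
    (by
      intro z hz
      simp only [List.mem_cons, List.not_mem_nil, or_false] at hz
      rcases hz with rfl | rfl | rfl | rfl | rfl
      · exact pt0_mem
      · exact hc
      · exact (hgd _).2 hc
      · exact ha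
      · exact (hgd _).2 ha)
  have huM : u ∈ fixL H12 [0] := ⟨hu, fun i hi => by
    simp only [List.mem_cons, List.not_mem_nil, or_false] at hi
    rw [hi]; exact e0⟩
  obtain ⟨_, hm, f1, f2, f3, f4⟩ := invP_spec
  refine ⟨u, huM, eq_of_agree (H12.mul_mem (H12.mul_mem hu hg.1) (H12.inv_mem hu)) hm.1 ?_⟩
  intro i hi
  simp only [List.mem_cons, List.not_mem_nil, or_false] at hi
  rcases hi with rfl | rfl | rfl | rfl | rfl
  · rw [f4]; exact conj_img e4 e3 (hinv a)
  · rw [f3]; exact conj_img e3 e4 rfl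
  · rw [f2]; exact conj_img e2 e1 (hinv c)
  · rw [f1]; exact conj_img e1 e2 rfl
  · rw [hm.2 0 (by simp)]; exact conj_img e0 e0 g0

/-- the elements of `M11` acting as `(1 2 3)` on the base points, indexed by the image of the point `4` -/
def ord3Tab : ℕ := 0x72e6f3a2e45460db54cca24b208c400000000000000000000000000000002aab45ca29b5da83bc869b1d008c40000000000000000000000000000000000000000000000000000000000000759f3542ec3c5125d124a98ad08c408bd76a18b2ab92499e0d522ec08c40000000000000000000000000000000000000000000000000000000000000bd4ea7b1c899486a5a505b62908c4029e95b36265de5054d89791c808c40000000000000000000000000000000bd147991d079589aada8b4a2608c400000000000000000000000000000008cecbaa4ada38cc7a9123c2e408c40000000000000000000000000000000000000000000000000000000000000000000000000000000000000000000000000000000000000000000000000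

set_option maxRecDepth 1000000 in
theorem ord3Tab_ok : allBelow (fun y => !(Nat.testBit 0x53350 y) ||
    (inFix D0 [0] (fldP ord3Tab y) && (Nat.beq (fld5 (fldP ord3Tab y) 1) 2 &&
      (Nat.beq (fld5 (fldP ord3Tab y) 2) 3 && (Nat.beq (fld5 (fldP ord3Tab y) 3) 1 &&
        Nat.beq (fld5 (fldP ord3Tab y) 4) y))))) 24 = true := by decide +kernel

/-- elements of order 3 of `M11` up to conjugacy -/
theorem ord3_conj {g : Equiv.Perm GolayPt} (hg : g ∈ fixL H12 [0]) (h3 : g * g * g = 1) (h1 : g ≠ 1) :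
    ∃ u ∈ fixL H12 [0], ∃ y < 24, (0x53350 : ℕ).testBit y = true ∧
      u * g * u⁻¹ = permOf (fldP ord3Tab y) := by
  have hgd : ∀ x, g x ∈ unmask D0 ↔ x ∈ unmask D0 := H12_mem_iff hg.1
  have g0 : g (pt 0) = pt 0 := hg.2 0 (by simp)
  have hcube : ∀ x, g (g (g x)) = x := fun x => by
    rw [← Equiv.Perm.mul_apply, ← Equiv.Perm.mul_apply, h3, Equiv.Perm.one_apply]
  obtain ⟨c, hc, _, hgc⟩ := exists_moved hg.1 h1 ∅ (by simp)
  have hc0 : c ≠ pt 0 := fun e => hgc (by rw [e, g0])
  have he0 : g c ≠ pt 0 := fun e => hc0 (g.injective (e.trans g0.symm))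
  have hf0 : g (g c) ≠ pt 0 := fun e => he0 (g.injective (e.trans g0.symm))
  have hfe : g (g c) ≠ g c := fun e => hgc (g.injective e)
  have hfc : g (g c) ≠ c := fun e => hgc (by
    have := hcube c
    rw [e] at this
    exact this)
  have hcard : (unmask D0).card = 12 := Cfsg.Agent.Lib.Helper9.D0_mem.2
  obtain ⟨a, ha, hat⟩ := Finset.exists_mem_notMem_of_card_lt_card
    (s := {pt 0, c, g c, g (g c)}) (t := unmask D0) (by
      rw [hcard]
      exact lt_of_le_of_lt (Finset.card_le_four) (by norm_num))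
  simp only [Finset.mem_insert, Finset.mem_singleton, not_or] at hat
  obtain ⟨ha0, hac, hae, haf⟩ := hat
  obtain ⟨u, hu, e0, e1, e2, e3, e4⟩ := to_base5 (a0 := pt 0) (a1 := c) (a2 := g c) (a3 := g (g c)) (a4 := a)
    (by
      simp only [List.nodup_cons, List.mem_cons, List.not_mem_nil, or_false, not_or, List.nodup_nil,
        and_true, not_false_eq_true]
      exact ⟨⟨hc0.symm, he0.symm, hf0.symm, Ne.symm ha0⟩, ⟨hgc.symm, hfc.symm, Ne.symm hac⟩,
        ⟨hfe.symm, Ne.symm hae⟩, Ne.symm haf⟩)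
    (by
      intro z hz
      simp only [List.mem_cons, List.not_mem_nil, or_false] at hz
      rcases hz with rfl | rfl | rfl | rfl | rfl
      · exact pt0_mem
      · exact hc
      · exact (hgd _).2 hc
      · exact (hgd _).2 ((hgd _).2 hc)
      · exact ha)
  have huM : u ∈ fixL H12 [0] := ⟨hu, fun i hi => by
    simp only [List.mem_cons, List.not_mem_nil, or_false] at hi
    rw [hi]; exact e0⟩
  -- the image of the fifth point
  set y := idx (u (g a)) with hy
  have hyD : u (g a) ∈ unmask D0 := (H12_mem_iff hu _).2 ((hgd _).2 ha)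
  have hne : ∀ b j, u b = pt j → g a ≠ b → y ≠ idx (pt j) := by
    intro b j hb hne e
    apply hne
    apply u.injective
    rw [hb]
    exact idx_injective e
  have hy0 : y ≠ 0 := by
    have := hne (pt 0) 0 e0 (fun e => ha0 (g.injective (e.trans g0.symm)))
    rwa [idx_pt (by norm_num)] at this
  have hy1 : y ≠ 1 := by
    have := hne c 1 e1 (fun e => haf (g.injective (e.trans (hcube c).symm)))
    rwa [idx_pt (by norm_num)] at this
  have hy2 : y ≠ 2 := by
    have := hne (g c) 2 e2 (fun e => hac (g.injective e))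
    rwa [idx_pt (by norm_num)] at this
  have hy3 : y ≠ 3 := by
    have := hne (g (g c)) 3 e3 (fun e => hae (g.injective e))
    rwa [idx_pt (by norm_num)] at this
  have hybit : (0x53350 : ℕ).testBit y = true := by
    have h5 : D0.testBit y = true := mem_unmask.1 hyD
    have hlt : y < 24 := idx_lt _
    have key : ∀ z < 24, (D0.testBit z = true ∧ z ≠ 0 ∧ z ≠ 1 ∧ z ≠ 2 ∧ z ≠ 3) →
        (0x53350 : ℕ).testBit z = true := by decide
    exact key y hlt ⟨h5, hy0, hy1, hy2, hy3⟩
  have htab := (allBelow_iff _ _).1 ord3Tab_ok y (idx_lt _)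
  rw [hybit] at htab
  simp only [Bool.not_true, Bool.false_or, Bool.and_eq_true] at htab
  obtain ⟨t0, t1, t2, t3, t4⟩ := htab
  obtain ⟨hp, hm⟩ := inFix_spec (by decide) t0
  refine ⟨u, huM, y, idx_lt _, hybit,
    eq_of_agree (H12.mul_mem (H12.mul_mem hu hg.1) (H12.inv_mem hu)) hm.1 ?_⟩
  intro i hi
  simp only [List.mem_cons, List.not_mem_nil, or_false] at hi
  rcases hi with rfl | rfl | rfl | rfl | rfl
  · rw [permOf_apply hp, idx_pt (by norm_num), Nat.eq_of_beq_eq_true t4, hy, pt_idx]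
    exact conj_img e4 rfl rfl
  · rw [permOf_apply hp, idx_pt (by norm_num), Nat.eq_of_beq_eq_true t3]
    exact conj_img e3 e1 (hcube c)
  · rw [permOf_apply hp, idx_pt (by norm_num), Nat.eq_of_beq_eq_true t2]
    exact conj_img e2 e3 rfl
  · rw [permOf_apply hp, idx_pt (by norm_num), Nat.eq_of_beq_eq_true t1]
    exact conj_img e1 e2 rfl
  · rw [hm.2 0 (by simp)]; exact conj_img e0 e0 g0

end Cfsg.Agent.Lib.Helper34
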