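import Cfsg.Agent.Lib.Helper34.MatCode

set_option autoImplicit false

/-! The binary octahedral group acting freely on a space over the field with thirteen elements. -/

namespace Cfsg.Agent.Lib.Helper34

open Cfsg.Agent.Lib.Helper33

def o13T : ℕ := 0xcacca1c1cc31c11a02b2220bb0bb2bb0000100100c00c000777767766677676731c11ccacca11a11776667677777766700c0000110000c001a11cca1c113ac1cbb0202b2b220b0bb7776676667777767a1c11311c11a11acc11331c1c3cccca120222bb002b2bb023c1ccacc1cc3cc3176667767777676777667777776766677cc311cc31311a1c176777776667667777676776667767777000c00c0010010000010000cc000010013113c1c11ac1cc3113c1a1131c1c1130b2bbb022022b2200c001000000c0010ac1cc113113cc3ccb2202022220b02b2667676666766777666667667776676766776666667677766220b0b2b2bb02022c11acc313c1c131166677677766666766677767666666776c3cc113c1cca31c1c0000c0000c0000c1ccaac1c1a11113c6766666777677666b0bbb2200b2b220b677766766667676611acc11acacc3c1c67676677766766662bb0b0bbbb020b2bcca1c3ccac1c1cca0100c000000100c077676777767766671cc311aca1c1cacc1000010000100001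
def o13N : ℕ := 0x8778c7677b676616c1cc5011071c11660060660076070066666766777667676b67660787716686c6677767666666776607006066060070652712716615b17b78116146c17417c18666776777666667616766b6676c866807b6cb5c77c72c6254cc7c871c68c61c4b76771776705775c6777667666676766677666666767776677b167cbbc571b656766666777677666676766777667666660070670066060066060060770600606c56650676617677bc65761665606766b61c1170cc05c1cc6670066000067006617677c6566b775707cc0c6cccc610c156b2b26bbb26b22266bbb26b2226b2b26622bb6bbb26222b64cc6c861c78c71c476b177cbbc561b756bb226222b6bbb266b22262bbb6bb2267b7cb5c66c72c725600006000060000652612717715b16b762bbb6b222622bb68117147c16416c186222b62bbb62b2b6572c65122177c26762b2b6222b62bbb651101611116c01c707867b7787c7677166007600006600766676766667667776562c75122176c2770000000000000000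
def o13RA : ℕ := 0x29082f04122b222a022e2d2c261c23280027241a251b1d211f201e15190d141718160e1013110f090c0b0a0607050301
def o13RA' : ℕ := 0x2d2625242a282f201e231b1d21291816171519221a1c130f100e14110b2b0a0c090d12070605082e0304022c0127001f
def o13RB : ℕ := 0xb250f2d2e030a052f2c1627012b2a29282000261e24232221181f1d1c1b1a19131715141112100e0d0c070908060402
def o13RB' : ℕ := 0x272b2c262221201f241c2e1a1918171e151b1413121110160e250d0c0f0a0b092d0807062f290403050228012a00231d
def o13SQ : ℕ := 0xc0c0c080c0a0c292d120c1b1c0c130f170e140c0c0c0c0c0c0c0c06080f2d03120a29001b0e1c1317140c0c0c060300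

set_option maxRecDepth 1000000 in
theorem o13_h1 : oneChk4 13 (fld64 o13T 0) = true := by decide +kernel
set_option maxRecDepth 1000000 in
theorem o13_hA : mulChk4 13 (fld64 o13T 1) (fld64 o13T 31) (fld64 o13T 0) = true := by decide +kernel
set_option maxRecDepth 1000000 in
theorem o13_hA' : mulChk4 13 (fld64 o13T 31) (fld64 o13T 1) (fld64 o13T 0) = true := by decide +kernel
set_option maxRecDepth 1000000 in
theorem o13_hB : mulChk4 13 (fld64 o13T 2) (fld64 o13T 29) (fld64 o13T 0) = true := by decide +kernel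
set_option maxRecDepth 1000000 in
theorem o13_hB' : mulChk4 13 (fld64 o13T 29) (fld64 o13T 2) (fld64 o13T 0) = true := by decide +kernel
set_option maxRecDepth 1000000 in
theorem o13_hRA : allBelow (stepChk 13 48 o13T 1 o13RA) 48 = true := by decide +kernel
set_option maxRecDepth 1000000 in
theorem o13_hRA' : allBelow (stepChk 13 48 o13T 31 o13RA') 48 = true := by decide +kernel
set_option maxRecDepth 1000000 in
theorem o13_hRB : allBelow (stepChk 13 48 o13T 2 o13RB) 48 = true := by decide +kernel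
set_option maxRecDepth 1000000 in
theorem o13_hRB' : allBelow (stepChk 13 48 o13T 29 o13RB') 48 = true := by decide +kernel
set_option maxRecDepth 1000000 in
theorem o13_hinv : allBelow (fun k => Nat.beq k 0 || invChk4 13 (fld64 o13N k) (fld64 o13T k)) 48 = true := by
  decide +kernel
set_option maxRecDepth 1000000 in
theorem o13_hSQ : allBelow (sqChk 13 48 o13T o13SQ) 48 = true := by decide +kernel

set_option maxRecDepth 1000000 in
theorem o13_hpow : allBelow (fun k => oneChk4 13 (fld64 o13T (fld8 o13SQ (fld8 o13SQ (fld8 o13SQ k)))) ||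
    mulChk4 13 (fld64 o13T (fld8 o13SQ (fld8 o13SQ k))) (fld64 o13T (fld8 o13SQ k)) (fld64 o13T 0)) 48 = true := by
  decide +kernel

theorem o13_pows {k : ℕ} (hk : k < 48) :
    toMat 13 (fld64 o13T k) ^ 2 = toMat 13 (fld64 o13T (fld8 o13SQ k)) ∧
    toMat 13 (fld64 o13T k) ^ 4 = toMat 13 (fld64 o13T (fld8 o13SQ (fld8 o13SQ k))) ∧
    toMat 13 (fld64 o13T k) ^ 8 = toMat 13 (fld64 o13T (fld8 o13SQ (fld8 o13SQ (fld8 o13SQ k)))) := by
  obtain ⟨l1, q2⟩ := sqChk_spec o13_hSQ hk
  obtain ⟨l2, q4⟩ := sqChk_spec o13_hSQ l1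
  obtain ⟨l3, q8⟩ := sqChk_spec o13_hSQ l2
  refine ⟨q2, ?_, ?_⟩
  · rw [pw4, q2, q4]
  · rw [pw8, q2, q4, q8]

theorem o13_c4 : ∀ k < 48, ∃ m ∈ [8, 6], toMat 13 (fld64 o13T k) ^ m = 1 := by
  intro k hk
  obtain ⟨q2, q4, q8⟩ := o13_pows hk
  have h := (allBelow_iff _ _).1 o13_hpow k hk
  rw [Bool.or_eq_true] at h
  rcases h with h | h
  · exact ⟨8, by simp, by rw [q8, oneChk4_spec h]⟩
  · refine ⟨6, by simp, ?_⟩
    rw [pw6, q4, q2, mulChk4_spec h, oneChk4_spec o13_h1]

set_option maxRecDepth 1000000 in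
theorem o13_oA : oneChk4 13 (fld64 o13T (fld8 o13SQ (fld8 o13SQ (fld8 o13SQ 1)))) = true ∧
    oneChk4 13 (fld64 o13T (fld8 o13SQ (fld8 o13SQ 1))) = false := by decide +kernel

theorem ne_one_of_chk {p A : ℕ} (h : oneChk4 p A = false) : toMat p A ≠ 1 := by
  intro e
  rw [oneChk4_of_eq e] at h
  exact absurd h (by decide)

theorem o13_ordA : orderOf (toMat 13 (fld64 o13T 1)) = 8 := by
  obtain ⟨q2, q4, q8⟩ := o13_pows (show 1 < 48 by norm_num)
  apply orderOf_eq_8
  · rw [q8, oneChk4_spec o13_oA.1]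
  · rw [q4]
    exact ne_one_of_chk o13_oA.2

set_option maxRecDepth 1000000 in
theorem o13_oB : mulChk4 13 (fld64 o13T (fld8 o13SQ (fld8 o13SQ 2))) (fld64 o13T (fld8 o13SQ 2)) (fld64 o13T 0) = true ∧
    oneChk4 13 (fld64 o13T (fld8 o13RB (fld8 o13SQ 2))) = false ∧
    oneChk4 13 (fld64 o13T (fld8 o13SQ 2)) = false := by decide +kernel

theorem o13_ordB : orderOf (toMat 13 (fld64 o13T 2)) = 6 := by
  obtain ⟨q2, q4, q8⟩ := o13_pows (show 2 < 48 by norm_num)
  obtain ⟨l1, -⟩ := sqChk_spec o13_hSQ (show 2 < 48 by norm_num)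
  apply orderOf_eq_6
  · rw [pw6, q4, q2, mulChk4_spec o13_oB.1, oneChk4_spec o13_h1]
  · rw [pw3, q2, (stepChk_spec o13_hRB l1).2]
    exact ne_one_of_chk o13_oB.2.1
  · rw [q2]
    exact ne_one_of_chk o13_oB.2.2

theorem o13_exists : ∃ (H : Type) (_ : Group H) (_ : Fintype H), Group.IsSolvable H ∧
    Set.range (orderOf : H → ℕ) = insert 13 {d | ∃ m ∈ [8, 6], d ∣ m} := by
  apply frob_from_code 13 (by norm_num) 48 o13T o13N 1 31 2 29 o13RA o13RA' o13RB o13RB' (by norm_num)
    o13_h1 o13_hA o13_hA' o13_hB o13_hB' o13_hRA o13_hRA' o13_hRB o13_hRB' o13_hinv [8, 6]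
  · simp
  · intro m hm q hq hd
    simp only [List.mem_cons, List.not_mem_nil, or_false] at hm
    rcases hm with rfl | rfl
    · exact Or.inl (prime_dvd_8 q hq hd)
    · exact prime_dvd_6 q hq hd
  · exact o13_c4
  · intro m hm
    simp only [List.mem_cons, List.not_mem_nil, or_false] at hm
    rcases hm with rfl | rfl
    · exact Or.inl o13_ordA
    · exact Or.inr o13_ordB

end Cfsg.Agent.Lib.Helper34
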