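import Cfsg.Agent.Lib.Helper34.M11Cent2
import Cfsg.Agent.Lib.Helper34.F4c

set_option autoImplicit false

/-! The projective plane over the field with four elements on the 21 points of `GolayPt` other than
`23, 0, 1`, and the action of `3 × 3` matrices on it. -/

namespace Cfsg.Agent.Lib.Helper34

open Cfsg Cfsg.Agent.Lib.Helper33
open scoped Pointwise

def plPt : ℕ := 0x41de554aae325916c2c2619317a0e5aaa4eb36029554e4b0d13bd05859a25ce83a2e639d1632109f

def plVec : ℕ := 0x31e4d265d21f6447515db55a59501110000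

def plTv : ℕ := 0xbd8e932070515ab63e92acdc488820bda6aaacb048da8951ec31e2470820bd8cf3b1d0a45b24254b9d46428820bdab49ca307b9ac5a928398a418820b926faa22da3a0b6255231cb618820bb4c93ae2453ac893e8c9d4b018820bc0ea332364b892451ebaccad18820bdab49ca307b9ac5a928398a418820bd6d49c0b26094f5b4e64a2241b820bb1f499c49a94d65a20a935c41c420bbd949a5c7b451559a4d8284419420bdab49ca307b9ac5a928398a418820000000000000000000000000000000000000000000000000000000000000000000000000000000000000000000000000000000000000000000000000bbd8459e29b39559b606920b418820bd6cb22627638cfa224a834b318820bb1f3a4232ab916218ed4a8ab18820bdab49ca307b9ac5a928398a418820bb5549b92244ac65d62f2b0e41c020b89d49a98d2d6115c8c7425e41d820bc2549d4d63a8495b9857c5041b420bdab49ca307b9ac5a928398a418820bd9cb1a8d0455a9a498f2c4e498820bda435d5302a9a69ba27431e4a0820bd953a39903c9b11d4c57a50458820bdab49ca307b9ac5a928398a418820000000000000000000000000000000000000000000000000000000000000000000000000000000000000000000000000000000000000000000000000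

/-- index of the projective point spanned by a nonzero vector -/
def pidx3 (x y z : F4c) : ℕ := fld5 plPt (x.val + 4 * y.val + 16 * z.val)

def vecX (i : ℕ) : F4c := F4c.ofN (Nat.shiftRight plVec (6 * i))
def vecY (i : ℕ) : F4c := F4c.ofN (Nat.shiftRight plVec (6 * i + 2))
def vecZ (i : ℕ) : F4c := F4c.ofN (Nat.shiftRight plVec (6 * i + 4))

/-- representative vector of the point with index `i` -/
def plvec (i : ℕ) : Fin 3 → F4c := ![vecX i, vecY i, vecZ i]

def pidx (v : Fin 3 → F4c) : ℕ := pidx3 (v 0) (v 1) (v 2)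

theorem pl_scale : ∀ l x y z : F4c, l ≠ 0 → pidx3 (l * x) (l * y) (l * z) = pidx3 x y z := by
  decide +kernel

theorem pl_rep : ∀ x y z : F4c, ¬(x = 0 ∧ y = 0 ∧ z = 0) →
    pidx3 x y z < 24 ∧ (0x7FFFFC : ℕ).testBit (pidx3 x y z) = true ∧
    ∃ l : F4c, l ≠ 0 ∧ vecX (pidx3 x y z) = l * x ∧ vecY (pidx3 x y z) = l * y ∧
      vecZ (pidx3 x y z) = l * z := by
  decide +kernel

theorem pl_idx : ∀ i < 24, (0x7FFFFC : ℕ).testBit i = true →
    pidx3 (vecX i) (vecY i) (vecZ i) = i ∧ ¬(vecX i = 0 ∧ vecY i = 0 ∧ vecZ i = 0) := by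
  decide +kernel

theorem ne_zero3 {v : Fin 3 → F4c} (hv : v ≠ 0) : ¬(v 0 = 0 ∧ v 1 = 0 ∧ v 2 = 0) := by
  rintro ⟨h0, h1, h2⟩
  apply hv
  funext i
  fin_cases i
  · exact h0
  · exact h1
  · exact h2

theorem pidx_smul (l : F4c) (hl : l ≠ 0) (v : Fin 3 → F4c) : pidx (l • v) = pidx v :=
  pl_scale l _ _ _ hl

theorem plvec_pidx {v : Fin 3 → F4c} (hv : v ≠ 0) : ∃ l : F4c, l ≠ 0 ∧ plvec (pidx v) = l • v := by
  obtain ⟨_, _, l, hl, h0, h1, h2⟩ := pl_rep _ _ _ (ne_zero3 hv)
  refine ⟨l, hl, ?_⟩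
  funext i
  fin_cases i
  · exact h0
  · exact h1
  · exact h2

theorem plvec_ne_zero {i : ℕ} (hi : i < 24) (h : (0x7FFFFC : ℕ).testBit i = true) : plvec i ≠ 0 := by
  intro h0
  apply (pl_idx i hi h).2
  exact ⟨congrFun h0 0, congrFun h0 1, congrFun h0 2⟩

theorem pidx_plvec {i : ℕ} (hi : i < 24) (h : (0x7FFFFC : ℕ).testBit i = true) : pidx (plvec i) = i :=
  (pl_idx i hi h).1

/-- the action of a matrix on the 24 points -/
def plFun (A : Matrix (Fin 3) (Fin 3) F4c) (p : GolayPt) : GolayPt :=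
  if (0x7FFFFC : ℕ).testBit (idx p) = true then pt (pidx (A.mulVec (plvec (idx p)))) else p

theorem plFun_pos (A : Matrix (Fin 3) (Fin 3) F4c) {p : GolayPt}
    (h : (0x7FFFFC : ℕ).testBit (idx p) = true) : plFun A p = pt (pidx (A.mulVec (plvec (idx p)))) := by
  unfold plFun; rw [if_pos h]

theorem plFun_neg (A : Matrix (Fin 3) (Fin 3) F4c) {p : GolayPt}
    (h : ¬ (0x7FFFFC : ℕ).testBit (idx p) = true) : plFun A p = p := by
  unfold plFun; rw [if_neg h]

theorem plFun_one (p : GolayPt) : plFun 1 p = p := by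
  unfold plFun
  split_ifs with h
  · rw [Matrix.one_mulVec, pidx_plvec (idx_lt p) h, pt_idx]
  · rfl

theorem plFun_mul (A B : Matrix (Fin 3) (Fin 3) F4c) (hB : ∀ v, v ≠ 0 → B.mulVec v ≠ 0) (p : GolayPt) :
    plFun (A * B) p = plFun A (plFun B p) := by
  by_cases h : (0x7FFFFC : ℕ).testBit (idx p) = true
  · have hv := plvec_ne_zero (idx_lt p) h
    have hw := hB _ hv
    obtain ⟨h24, hbit, _⟩ := pl_rep _ _ _ (ne_zero3 hw)
    obtain ⟨l, hl, e⟩ := plvec_pidx hw
    have e1 : plFun B p = pt (pidx (B.mulVec (plvec (idx p)))) := plFun_pos B h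
    have e2 : idx (plFun B p) = pidx (B.mulVec (plvec (idx p))) := by
      rw [e1]; exact idx_pt h24
    have e3 : plFun A (plFun B p) = pt (pidx (A.mulVec (plvec (idx (plFun B p))))) :=
      plFun_pos A (by rw [e2]; exact hbit)
    rw [e3, e2, e, Matrix.mulVec_smul, pidx_smul l hl, Matrix.mulVec_mulVec, plFun_pos _ h]
  · rw [plFun_neg B h, plFun_neg A h, plFun_neg _ h]

theorem plFun_scalar (r : F4c) (hr : r ≠ 0) (p : GolayPt) : plFun (Matrix.scalar (Fin 3) r) p = p := by
  unfold plFun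
  split_ifs with h
  · have : (Matrix.scalar (Fin 3) r).mulVec (plvec (idx p)) = r • plvec (idx p) := by
      rw [Matrix.scalar_apply, ← Matrix.smul_one_eq_diagonal, Matrix.smul_mulVec, Matrix.one_mulVec]
    rw [this, pidx_smul r hr, pidx_plvec (idx_lt p) h, pt_idx]
  · rfl

set_option maxRecDepth 1000000 in
theorem pl_tv : ∀ i j : Fin 3, i ≠ j → ∀ c : F4c,
    inFix 0xFFFFFF [1, 0, 23] (fldP plTv (c.val + 4 * (j.val + 3 * i.val))) = true ∧
    ∀ k < 24, (if (0x7FFFFC : ℕ).testBit k = true then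
      pidx ((Matrix.transvection i j c).mulVec (plvec k)) else k) =
      fld5 (fldP plTv (c.val + 4 * (j.val + 3 * i.val))) k := by
  decide +kernel

end Cfsg.Agent.Lib.Helper34
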