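import Cfsg.Agent.Lib.Helper34.QuartetBase

set_option autoImplicit false

/-! The stabiliser of the base quartet in the base `M12`: order 432 by a stabiliser chain. -/

namespace Cfsg.Agent.Lib.Helper34

open Cfsg Cfsg.Agent.Lib.Helper33
open Cfsg.Agent.Lib.Helper9 (D0 H12 fixL mem_fixL H12_mem_iff Inv inv_iff_smul H12_inv)
open scoped Pointwise

def qT1 : ℕ := 0x596ceb85409bd23a45a838aac240d2000000000000000000000000000000acd657b0e3b5121bc50d511c201a50000000000000000000000000000000000000000000000000000000000000ada6bbc9507b86229c8c89a810212dbba74aca307d90029d2d5196110c8c0000000000000000000000000000000000000000000000000000000000009adf428a20b5c7071d84506b2335097d0b6980e2754ccbc65050563225a800000000000000000000000000000075ab3a09415dd2c7c5a8380a41ca06000000000000000000000000000000bb96fb0141a551229d2d88a7030d845bcb7a48e6b3809ac4415426869183752eb2b0e49d910aa9a988de690022b5e6fa0d447160959e468b2ad40801bdab49ca307b9ac5a928398a418820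

def qT2 : ℕ := 0x7ceae5b143b520d29e46892e848440bdab49ca307b9ac5a928398a418820000000000000000000000000000000

def qT3 : ℕ := 0xb2eb42b4e99b870bc584521e6908200000000000000000000000000000005ddd59a4e87d186b4483534b2808200000000000000000000000000000000000000000000000000000000000005da952c9467b868bc48c3c26968820b5eae2a62d7d20359e465226460820000000000000000000000000000000000000000000000000000000000000bd9d52b1449d20859cd288ded48820b5dd4799509d4895c5833c8ad40820000000000000000000000000000000bda8e7a0ed2d4925c46c52670308200000000000000000000000000000005d9d49a2292d4ccb9e12535e320820bdab49ca307b9ac5a928398a418820000000000000000000000000000000000000000000000000000000000000000000000000000000000000000000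

def qT4 : ℕ := 0xbae957b6289ba44b1cd0524ac18820000000000000000000000000000000000000000000000000000000000000000000000000000000000000000000000000000000000000000000000000000000000000000000000000000000000000000000000000000000000000000000000000000000000000000000bdab49ca307b9ac5a928398a418820000000000000000000000000000000000000000000000000000000000000000000000000000000000000000000000000000000000000000000000000

def qN : ℕ := 0x9beebaca30759042a9a939a8360402796d774226a2da39a9283caac204022cd76a1a32add2c7a90d3c1c418402a54af59a32bcda4729283c2c360041aba65bca30b3d23a290d3996c20041751f3b42265950caa9a93cae418041b2dd57c2262d124ba90d3ca63608205de8e29a329d503b29a93c1ec20820bdab49ca307b9ac5a928398a418820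

def qGL : ℕ := 0x7ae96bb62874cc2aaa503a4a00906c9ddd65a4e8a3c82aa9838b4a009a129ae97b1143abe42744d03b0a00b5090000000000000000000000000000007dab75b0e3a4da274528510a00ca067ddcbb1950acd82a1c838c8a00a50d9daabbca3073d22a1da8518a00b0640000000000000000000000000000005be7672548bd012ac4413b4a68106c000000000000000000000000000000bcdf6a35485b80ca9c418a4a419a120000000000000000000000000000005cdf7ab223b500672841390b283509b3e77a12235d40971c41530ad44a06b4deb718f0bd40da4441548a943064bbe6bac8f0b3804a2841898ac1a50d000000000000000000000000000000a3af67b4e89ac92ac583524a680022751769a6287dccca9e50534a418022000000000000000000000000000000ad1777b1439da4971cd0890ad40022a56d7990e37ada6729288b0b280022000000000000000000000000000000756cb79a309dd24a29a83c8ac18022abaeb9c9507d98da4483398a940022000000000000000000000000000000a3e6eb1223aac52ba8013b0a68250d000000000000000000000000000000acdee5b223a584db9c01510a941a12000000000000000000000000000000a4df5bb54872c46b44013a4b28306473e755a548a5c44b1c018b4ac1ca0674df4b18f0adc4c5a8018c8a41b509abe74bc8f07584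95c401518ad4106c0000000000000000000000000000000000000000000000000000000000007d16eab143b4cc0bc650390a20a50d9d6cea10e35bd20bc5a8530a209a129d17572628bbe40b28d03b4a20b0640000000000000000000000000000007baf5a34e85cd80b28838a4a20ca067d6d471a30bcda059d28548a20906c9baf4ac950b3c8059d83898a20b5090000000000000000000000000000005daae7b0e39d132ba9a8890a680820b2e8e991437d4cdb9e508b0a940820000000000000000000000000000000bae957b6289ba44b1cd0524ac188205ddd59a4e87d186b4483534b280820000000000000000000000000000000b5dd4799509d4895c5833c8ad40820bdab49ca307b9ac5a928398a4188200000000000000000000000000000005baefb0221ad19299c83508a683509b516fb80e1754c99aa50888ad43064bd6cf58141a39a49c528388ac19a12bd173b00e1aba4c7c4d0508a41a50d5d6d3b81417512679da8888b28106cb3af358221a548d7a983388a944a06000000000000000000000000000000000000000000000000000000000000000000000000000000000000000000a5aaf70941badb299d28880a68306472e8fa88e1b5cc49c650500ac1b509addcfa0a215d9899a883380ad41a12aae93708e1bda4d7a8d0880a94106ca5dd3a8a21b2c8679d83500b28250d75ab3a09415dd2c7c5a8380a41ca06000000000000000000000000000000000000000000000000000000000000000000000000000000000000000000000000000000000000000000000000000000000000000000000000000000000000000000000000000000000000000000000000000000000000000000000000000000000000000000000000000000000000000000000000000000000000000000000000000000000000000000000000000000000000000000000000000000000000000000000000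


/-- the stabiliser of the base quartet in the base `M12` -/
def HQ0 : Subgroup (Equiv.Perm GolayPt) := H12 ⊓ MulAction.stabilizer (Equiv.Perm GolayPt) Q0

/-- kernel test: the mask `m` is one of the four triples of the base quartet -/
def isQ0 (m : ℕ) : Bool := Nat.beq m 0x7 || (Nat.beq m 0x1018 || (Nat.beq m 0x50040 || Nat.beq m 0x2300))

/-- kernel test: `P` maps the base quartet to itself -/
noncomputable def fixQ0 (P : ℕ) : Bool := allBelow (fun i => isQ0 (permMask P (qF q0c 0 i))) 4

theorem fixQ0_spec {P : ℕ} (hP : isPerm P = true) (h : fixQ0 P = true) : permOf P • Q0 = Q0 := by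
  rw [fixQ0, allBelow_iff] at h
  apply Finset.eq_of_subset_of_card_le
  · intro t ht
    obtain ⟨t', ht', rfl⟩ := Finset.mem_smul_finset.1 ht
    obtain ⟨i, hi, rfl⟩ := mem_objM.1 ht'
    have := h i hi
    rw [smul_unmask hP, mem_Q0]
    simp only [isQ0, Bool.or_eq_true] at this
    rcases this with e | e | e | e
    · left; exact congrArg unmask (Nat.eq_of_beq_eq_true e)
    · right; left; exact congrArg unmask (Nat.eq_of_beq_eq_true e)
    · right; right; left; exact congrArg unmask (Nat.eq_of_beq_eq_true e)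
    · right; right; right; exact congrArg unmask (Nat.eq_of_beq_eq_true e)
  · rw [Finset.card_smul_finset]

/-- kernel test: `P` codes an element of `HQ0` fixing the points of `l` -/
noncomputable def inHQ (l : List ℕ) (P : ℕ) : Bool := inFix D0 l P && fixQ0 P

theorem inHQ_spec {l : List ℕ} {P : ℕ} (hl : ∀ i ∈ l, i < 24) (h : inHQ l P = true) :
    isPerm P = true ∧ permOf P ∈ fixL HQ0 l := by
  rw [inHQ, Bool.and_eq_true] at h
  obtain ⟨hp, hm⟩ := inFix_spec hl h.1
  exact ⟨hp, ⟨hm.1, fixQ0_spec hp h.2⟩, hm.2⟩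

noncomputable def transQ (l : List ℕ) (tab b D : ℕ) : Bool :=
  allBelow (fun q => !(Nat.testBit D q) || (inHQ l (fldP tab q) && Nat.beq (fld5 (fldP tab q) b) q)) 24

theorem transQ_spec {l : List ℕ} {tab b D : ℕ} (hl : ∀ i ∈ l, i < 24) (hb : b < 24)
    (h : transQ l tab b D = true) :
    ∀ q < 24, D.testBit q = true → ∃ P, isPerm P = true ∧ permOf P ∈ fixL HQ0 l ∧ permOf P (pt b) = pt q ∧
      P = fldP tab q := by
  rw [transQ, allBelow_iff] at h
  intro q hq hD
  have := h q hq
  rw [hD] at this
  simp only [Bool.not_true, Bool.false_or, Bool.and_eq_true] at this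
  obtain ⟨hp, hmem⟩ := inHQ_spec hl this.1
  exact ⟨_, hp, hmem, by rw [permOf_apply hp, idx_pt hb, Nat.eq_of_beq_eq_true this.2], rfl⟩

set_option maxRecDepth 1000000 in
theorem qT1_ok : transQ [] qT1 0 0x5335f = true := by decide +kernel
set_option maxRecDepth 1000000 in
theorem qT2_ok : transQ [0] qT2 1 0x6 = true := by decide +kernel
set_option maxRecDepth 1000000 in
theorem qT3_ok : transQ [1, 0] qT3 3 0x53358 = true := by decide +kernel
set_option maxRecDepth 1000000 in
theorem qT4_ok : transQ [3, 1, 0] qT4 4 0x1010 = true := by decide +kernel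

theorem HQ0_inv7 {g : Equiv.Perm GolayPt} (hg : g ∈ HQ0) (h0 : g (pt 0) = pt 0) : Inv g 0x7 := by
  rw [inv_iff_smul]
  refine quartet_stab_member Q0_mem hg.2 (mem_Q0.2 (Or.inl rfl)) (p := pt 0) ?_ ?_
  · rw [pt_mem_unmask (by norm_num)]; decide
  · rw [h0, pt_mem_unmask (by norm_num)]; decide

theorem HQ0_inv18 {g : Equiv.Perm GolayPt} (hg : g ∈ HQ0) (h0 : g (pt 3) = pt 3) : Inv g 0x1018 := by
  rw [inv_iff_smul]
  refine quartet_stab_member Q0_mem hg.2 (mem_Q0.2 (Or.inr (Or.inl rfl))) (p := pt 3) ?_ ?_
  · rw [pt_mem_unmask (by norm_num)]; decide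
  · rw [h0, pt_mem_unmask (by norm_num)]; decide

theorem qU1 : ∀ g ∈ fixL HQ0 [], (0x5335f : ℕ).testBit (idx (g (pt 0))) = true := by
  intro g hg
  have hI' : Inv g 0x5335f := H12_inv hg.1.1
  rw [hI'.testBit (by norm_num)]; decide

theorem qU2 : ∀ g ∈ fixL HQ0 [0], (0x6 : ℕ).testBit (idx (g (pt 1))) = true := by
  intro g hg
  have h0 := hg.2 0 (by simp)
  have hI : Inv g (0x7 ^^^ 2 ^ 0) := (HQ0_inv7 hg.1 h0).xor (Inv.of_fixed (by norm_num) h0)
  have hI' : Inv g 0x6 := hI
  rw [hI'.testBit (by norm_num)]; decide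

theorem qU3 : ∀ g ∈ fixL HQ0 [1, 0], (0x53358 : ℕ).testBit (idx (g (pt 3))) = true := by
  intro g hg
  have h0 := hg.2 0 (by simp)
  have hI : Inv g (D0 ^^^ 0x7) := (H12_inv hg.1.1).xor (HQ0_inv7 hg.1 h0)
  have hI' : Inv g 0x53358 := hI
  rw [hI'.testBit (by norm_num)]; decide

theorem qU4 : ∀ g ∈ fixL HQ0 [3, 1, 0], (0x1010 : ℕ).testBit (idx (g (pt 4))) = true := by
  intro g hg
  have h3 := hg.2 3 (by simp)
  have hI : Inv g (0x1018 ^^^ 2 ^ 3) := (HQ0_inv18 hg.1 h3).xor (Inv.of_fixed (by norm_num) h3)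
  have hI' : Inv g 0x1010 := hI
  rw [hI'.testBit (by norm_num)]; decide

theorem qU5 : fixL HQ0 [4, 3, 1, 0] = ⊥ := by
  rw [eq_bot_iff]
  intro g hg
  have h0 := hg.2 0 (by simp)
  have h1 := hg.2 1 (by simp)
  have hI : Inv g ((0x7 ^^^ 2 ^ 0) ^^^ 2 ^ 1) :=
    ((HQ0_inv7 hg.1 h0).xor (Inv.of_fixed (by norm_num) h0)).xor (Inv.of_fixed (by norm_num) h1)
  have hI' : Inv g (2 ^ 2) := hI
  have h2 := hI'.fixed (by norm_num)
  have : g ∈ fixL H12 [4, 3, 2, 1, 0] := by
    refine ⟨hg.1.1, fun i hi => ?_⟩
    simp only [List.mem_cons, List.not_mem_nil, or_false] at hi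
    rcases hi with rfl | rfl | rfl | rfl | rfl
    · exact hg.2 4 (by simp)
    · exact hg.2 3 (by simp)
    · exact h2
    · exact h1
    · exact h0
  rw [Cfsg.Agent.Lib.Helper9.m12_U6] at this
  exact this

theorem transQ_T {l : List ℕ} {tab b D : ℕ} (hl : ∀ i ∈ l, i < 24) (hb : b < 24)
    (h : transQ l tab b D = true) :
    ∀ q < 24, D.testBit q = true → ∃ t ∈ fixL HQ0 l, t (pt b) = pt q := by
  intro q hq hD
  obtain ⟨P, _, h2, h3, _⟩ := transQ_spec hl hb h q hq hD
  exact ⟨_, h2, h3⟩

theorem card_HQ0 : Nat.card HQ0 = 432 := by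
  have h0 := Cfsg.Agent.Lib.Helper9.card_fixL_step HQ0 _ 0 0x5335f (by decide) qU1
    (transQ_T (by decide) (by decide) qT1_ok)
  have h1 := Cfsg.Agent.Lib.Helper9.card_fixL_step HQ0 _ 1 0x6 (by decide) qU2
    (transQ_T (by decide) (by decide) qT2_ok)
  have h2 := Cfsg.Agent.Lib.Helper9.card_fixL_step HQ0 _ 3 0x53358 (by decide) qU3
    (transQ_T (by decide) (by decide) qT3_ok)
  have h3 := Cfsg.Agent.Lib.Helper9.card_fixL_step HQ0 _ 4 0x1010 (by decide) qU4
    (transQ_T (by decide) (by decide) qT4_ok)
  rw [Cfsg.Agent.Lib.Helper9.fixL_nil, show popc 0x5335f = 12 by decide +kernel] at h0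
  rw [show popc 0x6 = 2 by decide +kernel] at h1
  rw [show popc 0x53358 = 9 by decide +kernel] at h2
  rw [show popc 0x1010 = 2 by decide +kernel, qU5, Subgroup.card_bot] at h3
  omega

/-- sifting: a subgroup containing the transversal elements contains `HQ0` -/
theorem HQ0_le (K : Subgroup (Equiv.Perm GolayPt))
    (h1 : ∀ q < 24, (0x5335f : ℕ).testBit q = true → permOf (fldP qT1 q) ∈ K)
    (h2 : ∀ q < 24, (0x6 : ℕ).testBit q = true → permOf (fldP qT2 q) ∈ K)
    (h3 : ∀ q < 24, (0x53358 : ℕ).testBit q = true → permOf (fldP qT3 q) ∈ K)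
    (h4 : ∀ q < 24, (0x1010 : ℕ).testBit q = true → permOf (fldP qT4 q) ∈ K) : HQ0 ≤ K := by
  have key : ∀ {l : List ℕ} {tab b D : ℕ} (hl : ∀ i ∈ l, i < 24) (hb : b < 24)
      (h : transQ l tab b D = true) (hK : ∀ q < 24, D.testBit q = true → permOf (fldP tab q) ∈ K),
      ∀ q < 24, D.testBit q = true → ∃ t ∈ K, t ∈ HQ0 ∧ (∀ i ∈ l, t (pt i) = pt i) ∧ t (pt b) = pt q := by
    intro l tab b D hl hb h hK q hq hD
    obtain ⟨P, _, a2, a3, rfl⟩ := transQ_spec hl hb h q hq hD
    exact ⟨_, hK q hq hD, a2.1, a2.2, a3⟩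
  rw [← Cfsg.Agent.Lib.Helper9.fixL_nil HQ0]
  refine Cfsg.Agent.Lib.Helper9.sift_step HQ0 K _ 0 _ qU1 (key (by decide) (by decide) qT1_ok h1) ?_
  refine Cfsg.Agent.Lib.Helper9.sift_step HQ0 K _ 1 _ qU2 (key (by decide) (by decide) qT2_ok h2) ?_
  refine Cfsg.Agent.Lib.Helper9.sift_step HQ0 K _ 3 _ qU3 (key (by decide) (by decide) qT3_ok h3) ?_
  refine Cfsg.Agent.Lib.Helper9.sift_step HQ0 K _ 4 _ qU4 (key (by decide) (by decide) qT4_ok h4) ?_
  rw [qU5]
  exact bot_le

end Cfsg.Agent.Lib.Helper34
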