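import Cfsg.Agent.Lib.Helper43.TT54Q4

set_option autoImplicit false

/-! `L₂(11) < SU₅(2)`: explicit data over the concrete field `Q4` and kernel checks. -/

namespace Cfsg.Agent.Lib.Helper34.SU5

open Matrix
open Cfsg.Agent.Lib.Helper43.TT54 (Q4)
open Cfsg.Agent.Lib.Helper43.TT54.Q4 (z o w v)

abbrev M5 := Matrix (Fin 5) (Fin 5) Q4

def XP : Fin 11 → M5 := ![
  !![o, z, z, z, z; z, o, z, z, z; z, z, o, z, z; z, z, z, o, z; z, z, z, z, o],
  !![v, w, w, z, z; o, o, w, v, w; o, o, w, w, v; w, v, w, z, z; v, v, o, v, v],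
  !![w, o, o, w, w; z, w, z, o, w; o, w, v, w, o; z, w, o, o, z; v, v, z, w, z],
  !![v, v, w, z, z; o, z, v, z, w; w, o, w, v, w; o, z, v, v, z; w, v, v, w, o],
  !![v, z, v, o, z; o, z, o, z, v; w, v, o, o, w; o, v, w, o, w; o, o, o, z, z],
  !![v, o, w, o, w; z, o, v, z, o; z, v, z, o, v; o, o, z, z, o; v, w, w, o, o],
  !![w, z, z, o, w; o, o, w, o, v; v, w, z, z, v; o, z, o, z, o; v, o, w, o, o],
  !![w, o, v, o, o; z, z, w, w, o; w, o, o, v, o; o, z, o, o, z; z, w, v, v, z],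
  !![w, o, v, o, v; w, z, o, z, w; v, w, v, w, w; z, z, w, w, v; z, v, v, z, o],
  !![v, z, o, z, w; o, v, v, v, w; o, z, w, o, z; v, o, v, o, v; v, v, o, z, z],
  !![w, o, o, v, w; v, o, o, w, w; v, v, v, v, o; z, w, v, z, w; z, v, w, z, w]]

def YP : Fin 5 → M5 := ![
  !![o, z, z, z, z; z, o, z, z, z; z, z, o, z, z; z, z, z, o, z; z, z, z, z, o],
  !![v, v, w, z, z; o, w, w, o, w; o, v, o, w, v; w, z, o, z, w; v, z, w, w, z],
  !![v, w, w, z, z; z, o, o, w, z; z, o, o, z, o; o, w, o, o, v; v, v, o, v, w],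
  !![w, z, z, o, w; v, o, o, v, w; v, o, o, o, o; z, v, z, o, w; z, z, o, w, v],
  !![w, o, o, v, w; w, v, w, z, z; v, v, o, o, v; z, o, v, z, v; z, v, w, v, z]]

def t0 : M5 := !![o, o, z, z, o; o, z, o, z, o; z, o, o, z, o; z, z, z, o, z; o, o, o, z, z]

def g0 : M5 := !![z, o, z, z, z; o, z, z, z, z; z, z, o, z, z; z, z, z, o, z; z, z, z, z, o]

def gv : Fin 5 → Q4 := ![v, z, z, o, o]

def Bm : M5 := !![o, v, w, v, v; z, o, z, o, o; z, o, o, w, w; z, w, z, o, o; z, v, v, w, o]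

def Bi : M5 := !![o, w, w, w, z; z, w, z, w, z; z, v, o, o, z; z, z, o, z, w; z, v, o, w, w]

def MASK : ℕ := 26860883145552434358181843675658470264481329786685701403059717321414521727982726319235126746255151885477990682860665910289359814572689752474369065062575791279330523722549243976656116369688381774751430013172919367923687836676871097413669496067411869140599501761528717676773451237157430395484521196824259788800

def X0 : M5 := XP 1
def Y0 : M5 := YP 1
def e0 : Fin 5 → Q4 := ![o, z, z, z, z]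

def cd : Q4 → ℕ
  | z => 0 | o => 1 | w => 2 | v => 3

def code (u : Fin 5 → Q4) : ℕ :=
  cd (u 0) + 4 * cd (u 1) + 16 * cd (u 2) + 64 * cd (u 3) + 256 * cd (u 4)

/-- the invariant set: 55 points of the unitary space. -/
def inS (u : Fin 5 → Q4) : Bool := MASK.testBit (code u)

def PA (a : Fin 5 → Q4) : M5 := a 0 • XP 0 + a 1 • XP 1 + a 2 • XP 2 + a 3 • XP 3 + a 4 • XP 4

/-- conjugate transpose times the matrix. -/
def gr (M : M5) : M5 := (M.map (fun a : Q4 => a ^ 2))ᵀ * M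

theorem vec5 (u : Fin 5 → Q4) : u = ![u 0, u 1, u 2, u 3, u 4] := by
  ext i; fin_cases i <;> rfl

set_option maxRecDepth 1000000

theorem c_XP : ∀ m : Fin 11, XP m = X0 ^ (m : ℕ) := by decide +kernel
theorem c_YP : ∀ j : Fin 5, YP j = Y0 ^ (j : ℕ) := by decide +kernel
theorem c_X1 : X0 * XP 10 = 1 := by decide +kernel
theorem c_X2 : XP 10 * X0 = 1 := by decide +kernel
theorem c_Xne : X0 ≠ 1 := by decide +kernel
theorem c_Y1 : Y0 * YP 4 = 1 := by decide +kernel
theorem c_Y2 : YP 4 * Y0 = 1 := by decide +kernel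
theorem c_t : t0 * t0 = 1 := by decide +kernel
theorem c_g : g0 * g0 = 1 := by decide +kernel
theorem c_uX : gr X0 = 1 := by decide +kernel
theorem c_uY : gr Y0 = 1 := by decide +kernel
theorem c_ut : gr t0 = 1 := by decide +kernel
theorem c_ug : gr g0 = 1 := by decide +kernel
theorem c_SX : ∀ a b c d e : Q4, inS ![a, b, c, d, e] = inS (X0 *ᵥ ![a, b, c, d, e]) := by decide +kernel
theorem c_SY : ∀ a b c d e : Q4, inS ![a, b, c, d, e] = inS (Y0 *ᵥ ![a, b, c, d, e]) := by decide +kernel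
theorem c_St : ∀ a b c d e : Q4, inS ![a, b, c, d, e] = inS (t0 *ᵥ ![a, b, c, d, e]) := by decide +kernel
theorem c_Ss : ∀ s : Q4, s ≠ 0 → ∀ a b c d e : Q4, inS ![a, b, c, d, e] = inS (s • ![a, b, c, d, e]) := by
  decide +kernel
theorem c_g0 : inS gv ≠ inS (g0 *ᵥ gv) := by decide +kernel
theorem c_tr : ∀ k : Fin 11, trace (XP k) = trace X0 → ∃ j : Fin 5, YP j * X0 = XP k * YP j := by
  decide +kernel
theorem c_tX : ∀ k : Fin 11, t0 * X0 ≠ XP k * t0 := by decide +kernel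
theorem c_B : Bm * Bi = 1 := by decide +kernel
theorem c_Bc : ∀ i r : Fin 5, Bm r i = (XP (Fin.castLE (by norm_num) i) *ᵥ e0) r := by decide +kernel
theorem c_PAe : ∀ a b c d e : Q4, PA ![a, b, c, d, e] *ᵥ e0 = Bm *ᵥ ![a, b, c, d, e] := by decide +kernel
theorem c_PAc : ∀ a b c d e : Q4, PA ![a, b, c, d, e] * X0 = X0 * PA ![a, b, c, d, e] := by decide +kernel
theorem c_poly : ∀ a b c d e : Q4, gr (PA ![a, b, c, d, e]) = 1 →
    ∃ s : Q4, s ≠ 0 ∧ ∃ m : Fin 11, PA ![a, b, c, d, e] = s • XP m := by decide +kernel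

end Cfsg.Agent.Lib.Helper34.SU5
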