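import Cfsg.Agent.Lib.Helper34.SextetStab
import Cfsg.Agent.Lib.Helper33.TrioData
import Cfsg.Agent.S1557

set_option autoImplicit false

/-! The stabiliser of a trio in `M24`, first part: swaps, order, the normal subgroup of order 64. -/

namespace Cfsg.Agent.Lib.Helper34

open Cfsg Cfsg.Agent.Lib.Helper33
open scoped Pointwise

def trSw : ℕ := 0x8adb2452ef816acb28d33a5c41882011c819ca30539a55bc03b199545e898adb2452ef816acb28d33a5c418820000000000000000000000000000000bdab41844a7b08e3c128580ad9c64611c819ca30539a55bc03b199545e89bdab41844a7b08e3c128580ad9c646000000000000000000000000000000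

def trN : ℕ := 0x2a6956c0d242e60712cf146ea09c6c4950f835d3a4640312f512eca09c6ca20b78ae6e4c0c0911f6136aa09c6cabee571a11b4d606910914a8a09c6c451365c6462b5c0992b7141ea09c6cb5de89ca30ab9a0590b41192a09c6c7d6c9339abbca208128514d0a09c6cbdab494d6d79a0089128138aa09c6c2a695339ab44a24802cf1ceec3844a4950f71a11a4d64682f51cacc3844aa20b79ca304b9a4581f619aac3844aabee5835d3b4644301091ae8c3844a4513694d6d29a04882b71b9ec3844ab5de88ae6eac0c4900b41b52c3844a7d6c96c0d2bae64702851c50c3844abdab45c6467b5c4981281c0ac3844a2a6959ca30439a258ecf01ae1530874950f94d6da1a0288ef503ac153087a20b7339ab4ca2280df604ea153087abee55c646b35c298d0904281530874513671a112cd6268eb7049e153087b5de86c0d2aae6270cb404521530877d6c98ae6ebc0c290e850350153087bdab4835d37c64230d2802ca1530872a69571a1144d6a6b2cf0cae010ce44950f339aba4a2a832f50cec010ce4a20b794d6d49a0a8b1f60baa010ce4abee56c0d2b2e6a731090c68010ce4451369ca302b9aa5b2b7099e010ce4b5de85c646ab5ca9b0b40c12010ce47d6c9835d3bc64a332850ad0010ce4bdab48ae6e7c0ca931280b4a010ce42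a6955c646435c199ecf542e2011834950f8ae6ea40c191ef5536c201183a20b7835d34c64131df652ea201183abee59ca30b39a159d0951a8201183451366c0d22ae6171eb7545e201183b5de871a11acd6169cb454922011837d6c994d6db9a0189e855390201183bdab4339ab7ca2181d2854ca2011832a69594d6d41a07886cf63ae3201424950f9ca30a39a7586f561ac320142a20b771a114cd67685f664aa320142abee58ae6eb40c790509636832014245136339ab2ca27806b764de320142b5de8835d3ac647304b462d23201427d6c95c646bb5c7986856410320142bdab46c0d27ae6770528644a3201422a6958ae6e440c390acf236e7628014950f5c646a35c398af5242c762801a20b76c0d24ae63709f6246a762801abee594d6db1a038890923a876280145136835d32c64330ab722de762801b5de8339abaca23808b424d27628017d6c99ca30bb9a358a852190762801bdab471a117cd6368928248a7628012a695835d34464c32acf3aee4188204950f6c0d2a2e6c72af53c6c418820a20b75c6464b5cc9a9f63c2a418820abee5339abb4a2c829093ce8418820451368ae6e2c0cc92ab73b5e418820b5de894d6da9a0c8a8b43b924188207d6c971a11bcd6c6aa853c90418820bdab49ca307b9ac5a928398a418820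

/-- the base trio -/
abbrev trT0 : Finset (Finset GolayPt) := objM trTab 3 0

set_option maxRecDepth 1000000 in
theorem trSw_ok : swOK trTab trSw 3 = true := by decide +kernel

theorem trT0_swap : SwapProp trT0 := swOK_spec trSw_ok

theorem trio_to_base {T : Finset (Finset GolayPt)} (hT : T ∈ trios) : ∃ u ∈ M24, u • T = trT0 := by
  obtain ⟨g, hg⟩ := tr_rank.trans T hT
  exact ⟨g.1, g.2, hg⟩

theorem trio_swap {T : Finset (Finset GolayPt)} (hT : T ∈ trios) : SwapProp T := by
  obtain ⟨u, hu, h⟩ := trio_to_base hT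
  have := trT0_swap.smul (M24.inv_mem hu)
  rwa [← h, inv_smul_smul] at this

theorem card_trio_stab {T : Finset (Finset GolayPt)} (hT : T ∈ trios) :
    Nat.card (MulAction.stabilizer M24 T) = 64512 := by
  have h2 := Subgroup.card_mul_index (MulAction.stabilizer M24 T)
  rw [MulAction.index_stabilizer, tr_rank.orbit_eq hT, Cfsg.Agent.S1557.result.2,
    Cfsg.Agent.Lib.Helper9.card_M24] at h2
  exact Nat.eq_of_mul_eq_mul_right (by decide : 0 < 3795) (h2.trans (by norm_num))

theorem card_StabP_trT0 : Nat.card (StabP trT0) = 64512 := by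
  rw [← card_trio_stab tr_rank.mem₀]
  exact (Nat.card_congr (conjEquiv (StabP_le_M24 trT0) M24.one_mem
    (stabP_key M24.one_mem (one_smul _ _))).toEquiv).symm

/-- every member of the first family lies in a member of the second -/
def Refines (S T : Finset (Finset GolayPt)) : Prop := ∀ t ∈ S, ∃ o ∈ T, t ⊆ o

theorem Refines.smul {S T : Finset (Finset GolayPt)} (h : Refines S T) (k : Equiv.Perm GolayPt) :
    Refines (k • S) (k • T) := by
  intro t ht
  obtain ⟨t', ht', rfl⟩ := Finset.mem_smul_finset.1 ht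
  obtain ⟨o, ho, hto⟩ := h t' ht'
  exact ⟨k • o, Finset.smul_mem_smul_finset ho, Finset.smul_finset_subset_smul_finset hto⟩

/-- the elements fixing every member of a family and every sextet refining it -/
def trioN (T : Finset (Finset GolayPt)) : Subgroup (Equiv.Perm GolayPt) where
  carrier := {g | g ∈ KerP T ∧ ∀ S ∈ sextets, Refines S T → g • S = S}
  one_mem' := ⟨(KerP T).one_mem, fun S _ _ => one_smul _ S⟩
  mul_mem' := fun {a b} ha hb => ⟨(KerP T).mul_mem ha.1 hb.1, fun S hS hr => by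
    rw [mul_smul, hb.2 S hS hr, ha.2 S hS hr]⟩
  inv_mem' := fun {a} ha => ⟨(KerP T).inv_mem ha.1, fun S hS hr => by
    rw [inv_smul_eq_iff, ha.2 S hS hr]⟩

theorem mem_trioN {T : Finset (Finset GolayPt)} {g : Equiv.Perm GolayPt} :
    g ∈ trioN T ↔ g ∈ KerP T ∧ ∀ S ∈ sextets, Refines S T → g • S = S := Iff.rfl

theorem trioN_le (T : Finset (Finset GolayPt)) : trioN T ≤ StabP T := fun _ h => KerP_le _ h.1

theorem trioN_conj {T : Finset (Finset GolayPt)} {h k : Equiv.Perm GolayPt} (hh : h ∈ trioN T)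
    (hk : k ∈ StabP T) : k * h * k⁻¹ ∈ trioN T := by
  refine ⟨KerP_conj hh.1 hk, fun S hS hr => ?_⟩
  have hkT : k • T = T := hk.2
  have h1 : k⁻¹ • S ∈ sextets := smul_mem_sextets (M24.inv_mem hk.1) hS
  have h2 : Refines (k⁻¹ • S) T := by
    have := hr.smul k⁻¹
    rwa [inv_smul_eq_iff.2 hkT.symm] at this
  rw [mul_smul, mul_smul, hh.2 _ h1 h2, smul_inv_smul]

/-- the indices of the sextets refining the base trio -/
def trRef : List ℕ := [3, 37, 63, 108, 1681, 1687, 1714]

set_option maxRecDepth 1000000 in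
theorem trRef_scan : ∀ k < 1771, (∀ i < 6, ∃ j < 3, Nat.land (fld24 sxTab (Nat.add (Nat.mul 6 k) i))
    (fld24 trTab (Nat.add (Nat.mul 3 0) j)) = fld24 sxTab (Nat.add (Nat.mul 6 k) i)) → k ∈ trRef := by
  decide +kernel

set_option maxRecDepth 1000000 in
theorem trRef_scan' : ∀ k ∈ trRef, k < 1771 ∧ ∀ i < 6, ∃ j < 3, Nat.land (fld24 sxTab (Nat.add (Nat.mul 6 k) i))
    (fld24 trTab (Nat.add (Nat.mul 3 0) j)) = fld24 sxTab (Nat.add (Nat.mul 6 k) i) := by
  decide +kernel

theorem refines_trT0 {S : Finset (Finset GolayPt)} (hS : S ∈ sextets) (h : Refines S trT0) :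
    ∃ k ∈ trRef, S = objM sxTab 6 k := by
  obtain ⟨k, hk, rfl⟩ := sx_table.cover S hS
  refine ⟨k, trRef_scan k hk (fun i hi => ?_), rfl⟩
  obtain ⟨o, ho, hto⟩ := h _ (mem_objM.2 ⟨i, hi, rfl⟩)
  obtain ⟨j, hj, rfl⟩ := mem_objM.1 ho
  exact ⟨j, hj, (unmask_subset_iff (fld24_lt _ _)).1 hto⟩

theorem trRef_refines {k : ℕ} (hk : k ∈ trRef) : objM sxTab 6 k ∈ sextets ∧ Refines (objM sxTab 6 k) trT0 := by
  obtain ⟨h1, h2⟩ := trRef_scan' k hk
  refine ⟨sx_table.mem h1, fun t ht => ?_⟩
  obtain ⟨i, hi, rfl⟩ := mem_objM.1 ht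
  obtain ⟨j, hj, e⟩ := h2 i hi
  exact ⟨_, mem_objM.2 ⟨j, hj, rfl⟩, (unmask_subset_iff (fld24_lt _ _)).2 e⟩

/-- kernel test: the packed permutation fixes the sextet with index `k` -/
noncomputable def sxFix (P k : ℕ) : Bool :=
  anyBelow (fun l => Nat.beq (permMask P (fld24 sxTab (Nat.add (Nat.mul 6 k) 0)))
    (fld24 sxTab (Nat.add (Nat.mul 6 k) l))) 6

theorem sxFix_iff {P k : ℕ} (hP : inM24 P = true) (hk : k < 1771) :
    sxFix P k = true ↔ permOf P • objM sxTab 6 k = objM sxTab 6 k := by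
  have hp := isPerm_of_inM24 hP
  rw [sxFix, anyBelow_iff]
  constructor
  · rintro ⟨l, hl, e⟩
    refine sextet_unique (smul_mem_sextets (permOf_mem_M24 hP) (sx_table.mem hk)) (sx_table.mem hk)
      (Finset.smul_mem_smul_finset (mem_objM.2 ⟨0, by norm_num, rfl⟩)) ?_
    rw [smul_unmask hp, Nat.eq_of_beq_eq_true e]
    exact mem_objM.2 ⟨l, hl, rfl⟩
  · intro h
    have h1 : permOf P • unmask (fld24 sxTab (Nat.add (Nat.mul 6 k) 0)) ∈ permOf P • objM sxTab 6 k :=
      Finset.smul_mem_smul_finset (mem_objM.2 ⟨0, by norm_num, rfl⟩)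
    rw [h, smul_unmask hp] at h1
    obtain ⟨l, hl, e⟩ := mem_objM.1 h1
    refine ⟨l, hl, ?_⟩
    rw [unmask_inj (permMask_lt hp _) (fld24_lt _ _) e]
    exact Nat.beq_refl _

/-- kernel test: the packed permutation fixes the three octads of the base trio -/
noncomputable def trFixO (P : ℕ) : Bool :=
  allBelow (fun l => Nat.beq (permMask P (fld24 trTab (Nat.add (Nat.mul 3 0) l)))
    (fld24 trTab (Nat.add (Nat.mul 3 0) l))) 3

theorem trFixO_spec {P : ℕ} (hP : inM24 P = true) (h : trFixO P = true) : permOf P ∈ KerP trT0 := by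
  rw [trFixO, allBelow_iff] at h
  refine ⟨permOf_mem_M24 hP, fun t ht => ?_⟩
  obtain ⟨l, hl, rfl⟩ := mem_objM.1 ht
  rw [smul_unmask (isPerm_of_inM24 hP), Nat.eq_of_beq_eq_true (h l hl)]

/-- kernel test for membership in the normal subgroup of the base trio -/
noncomputable def inTrN (P : ℕ) : Bool := inM24 P && trFixO P && trRef.all (fun k => sxFix P k)

theorem inTrN_spec {P : ℕ} (h : inTrN P = true) : isPerm P = true ∧ permOf P ∈ trioN trT0 := by
  rw [inTrN, Bool.and_eq_true, Bool.and_eq_true, List.all_eq_true] at h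
  obtain ⟨⟨h1, h2⟩, h3⟩ := h
  refine ⟨isPerm_of_inM24 h1, trFixO_spec h1 h2, fun S hS hr => ?_⟩
  obtain ⟨k, hk, rfl⟩ := refines_trT0 hS hr
  exact (sxFix_iff h1 (trRef_scan' k hk).1).1 (h3 k hk)

set_option maxRecDepth 1000000 in
theorem trN_ok : allBelow (fun i => inTrN (fldP trN i)) 64 = true := by decide +kernel

/-- the elements of the table -/
noncomputable def trNf (i : ℕ) : Equiv.Perm GolayPt := permOf (fldP trN i)

theorem trN_perm {i : ℕ} (hi : i < 64) : isPerm (fldP trN i) = true :=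
  (inTrN_spec ((allBelow_iff _ _).1 trN_ok i hi)).1

theorem trNf_mem {i : ℕ} (hi : i < 64) : trNf i ∈ trioN trT0 :=
  (inTrN_spec ((allBelow_iff _ _).1 trN_ok i hi)).2

set_option maxRecDepth 1000000 in
theorem trN_inj : ∀ i < 64, ∀ j < 64, (fld5 (fldP trN i) 0 = fld5 (fldP trN j) 0 ∧
    fld5 (fldP trN i) 5 = fld5 (fldP trN j) 5) → i = j := by decide +kernel

theorem trNf_inj : ∀ i < 64, ∀ j < 64, trNf i = trNf j → i = j := by
  intro i hi j hj h
  have key : ∀ p < 24, fld5 (fldP trN i) p = fld5 (fldP trN j) p := by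
    intro p hp
    have := congrArg (fun σ : Equiv.Perm GolayPt => idx (σ (pt p))) h
    simp only [trNf] at this
    rwa [idx_permOf (trN_perm hi), idx_permOf (trN_perm hj), idx_pt hp] at this
  exact trN_inj i hi j hj ⟨key 0 (by norm_num), key 5 (by norm_num)⟩

set_option maxRecDepth 1000000 in
theorem trN_sq : allBelow (fun i => allBelow (fun p =>
    Nat.beq (fld5 (fldP trN i) (fld5 (fldP trN i) p)) p) 24) 64 = true := by
  decide +kernel

theorem trNf_sq {i : ℕ} (hi : i < 64) : trNf i * trNf i = 1 := by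
  have h := (allBelow_iff _ _).1 ((allBelow_iff _ _).1 trN_sq i hi)
  have hi' := trN_perm hi
  ext1 p
  apply idx_injective
  simp only [Equiv.Perm.mul_apply, trNf, Equiv.Perm.one_apply]
  rw [idx_permOf hi', idx_permOf hi']
  exact Nat.eq_of_beq_eq_true (h _ (idx_lt p))

theorem le_card_trioN : 64 ≤ Nat.card (trioN trT0) := by
  have : Finite ↥(trioN trT0) := inferInstance
  have hinj : Function.Injective (fun i : Fin 64 => (⟨trNf i.1, trNf_mem i.2⟩ : ↥(trioN trT0))) := by
    intro a b hab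
    apply Fin.ext
    exact trNf_inj _ a.2 _ b.2 (congrArg Subtype.val hab)
  have := Nat.card_le_card_of_injective _ hinj
  rwa [Nat.card_eq_fintype_card, Fintype.card_fin] at this

end Cfsg.Agent.Lib.Helper34
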